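import Groth.Prelude.Def_AlgGrp
import Groth.Prelude.Def_CGrpSh2
import Groth.Agent.AbSch7.PushO
import Groth.Agent.AbSch7.Biadd
import Groth.Agent.RedPts82.TorusBasic

/-!
Homomorphisms from abelian schemes to groups affine over the base are trivial.
-/

set_option autoImplicit false
set_option linter.style.haveILetI false
universe u

open CategoryTheory CategoryTheory.Limits MonoidalCategory CartesianMonoidalCategory MonObj AlgebraicGeometry Opposite

noncomputable section

namespace Groth.Agent.SemiAb7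

/-- Morphisms from a proper flat family with connected reduced fibres to an affine scheme over the
base are determined along a section. -/
theorem eq_of_section {X Y S Z : Scheme.{u}} (f : X ⟶ Y) [IsProper f] [Flat f]
    [LocallyOfFinitePresentation f] [GeometricallyConnected f] [GeometricallyReduced f]
    (e : Y ⟶ X) (he : e ≫ f = 𝟙 Y) (y : Y ⟶ S) (q : Z ⟶ S) [IsAffineHom q]
    (a b : X ⟶ Z) (ha : a ≫ q = f ≫ y) (hb : b ≫ q = f ≫ y) (hab : e ≫ a = e ≫ b) : a = b := by
  refine Rig93.eq_of_forall_exists_opens _ _ fun x => ?_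
  obtain ⟨_, ⟨(W : S.Opens), hW, rfl⟩, hxW, -⟩ :=
    S.isBasis_affineOpens.exists_subset_of_mem_open (Set.mem_univ (y (f x))) isOpen_univ
  obtain ⟨_, ⟨(V : Y.Opens), hV, rfl⟩, hxV, hVW⟩ :=
    Y.isBasis_affineOpens.exists_subset_of_mem_open (show f x ∈ ((y ⁻¹ᵁ W : Y.Opens) : Set Y) from hxW)
      (y ⁻¹ᵁ W).isOpen
  refine ⟨f ⁻¹ᵁ V, hxV, ?_⟩
  have hle : ∀ c : X ⟶ Z, c ≫ q = f ≫ y → f ⁻¹ᵁ V ≤ c ⁻¹ᵁ (q ⁻¹ᵁ W) := fun c hc z hz => by
    show (c ≫ q) z ∈ W
    rw [hc]
    exact hVW hz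
  have hA : IsAffineOpen (q ⁻¹ᵁ W) := hW.preimage q
  haveI : IsAffine (q ⁻¹ᵁ W : Scheme.{u}) := hA
  have hsplit : ∀ (c : X ⟶ Z) (hc : c ≫ q = f ≫ y),
      Scheme.Hom.resLE c _ _ (hle c hc) ≫ (q ⁻¹ᵁ W).ι = (f ⁻¹ᵁ V).ι ≫ c := fun c hc =>
    Scheme.Hom.resLE_comp_ι c _
  rw [← hsplit a ha, ← hsplit b hb]
  congr 1
  have hs := isPullback_morphismRestrict f V
  let e' : (V : Scheme.{u}) ⟶ (f ⁻¹ᵁ V : Scheme.{u}) :=
    hs.lift (𝟙 _) (V.ι ≫ e) (by rw [Category.id_comp, Category.assoc, he, Category.comp_id])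
  have h' : Function.Bijective (f ∣_ V).appTop.hom :=
    AbSch7.appTop_bijective_general (f ∣_ V) e' (hs.lift_fst _ _ _)
      (fun s => Rig93.h0_of_geometrically (f ∣_ V) s)
  have hinj : Function.Injective e'.appTop.hom := fun s t hst => by
    obtain ⟨s', rfl⟩ := h'.2 s
    obtain ⟨t', rfl⟩ := h'.2 t
    have hid : ∀ z, e'.appTop.hom ((f ∣_ V).appTop.hom z) = z := fun z => by
      rw [← CommRingCat.comp_apply, ← Scheme.Hom.comp_appTop, hs.lift_fst]
      rfl
    rw [hid, hid] at hst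
    rw [hst]
  refine ext_of_isAffine (CommRingCat.hom_ext (RingHom.ext fun z => hinj ?_))
  have key : e' ≫ Scheme.Hom.resLE a _ _ (hle a ha) = e' ≫ Scheme.Hom.resLE b _ _ (hle b hb) := by
    rw [← cancel_mono (q ⁻¹ᵁ W).ι, Category.assoc, Category.assoc, hsplit a ha, hsplit b hb,
      hs.lift_snd_assoc, hs.lift_snd_assoc, Category.assoc, Category.assoc, hab]
  exact congrArg (fun m => m.appTop.hom z) key

variable {S : Scheme.{u}}

local notation "Pts" => CGrpSh.pts Scheme.fppfPrecoverage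

/-- A point as a section of the sheaf of points. -/
abbrev pt (G : Over S) [GrpObj G] [IsCommMonObj G] {T : Over S} (x : T ⟶ G) :
    (Pts G).obj.obj (op T) := ULift.up (Additive.ofMul x)

/-- There are no homomorphisms from an abelian scheme to a group affine over the base. -/
theorem isZero_homSh_abelian_affine (A T : Over S) [GrpObj A] [IsCommMonObj A] [Smooth A.hom] [IsProper A.hom]
    (hA : ∀ s : S, ConnectedSpace ↥(A.hom.fiber s)) [GrpObj T] [IsCommMonObj T] [IsAffineHom T.hom] :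
    IsZero (HomSh.homSh (QuotSh.J Scheme.fppfPrecoverage S) (Pts A) (Pts T)) := by
  obtain ⟨hgc, hgr⟩ := AbSch7.geometrically_of_smooth_group A hA
  suffices key : ∀ (Y : Over S) (ψ : (Pts A).over Y ⟶ (Pts T).over Y), ψ = 0 by
    rw [IsZero.iff_id_eq_zero]
    exact Sheaf.hom_ext (NatTrans.ext (funext fun Y => AddCommGrpCat.ext fun ψ => key (unop Y) ψ))
  intro Y ψ
  let θ : ∀ {U : Over S} (g : U ⟶ Y) (t : U ⟶ A), (U ⟶ T) := fun {U} g t =>
    ((ψ.hom.app (op (Over.mk g)) (pt A t)).down).toMul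
  have hnat : ∀ {U V : Over S} (g : U ⟶ Y) (k : V ⟶ U) (t : U ⟶ A), θ (k ≫ g) (k ≫ t) = k ≫ θ g t := by
    intro U V g k t
    let m : Over.mk (k ≫ g) ⟶ Over.mk g := Over.homMk k rfl
    exact congrArg (fun x => x.down.toMul) (ConcreteCategory.congr_hom (ψ.hom.naturality m.op) (pt A t))
  have hzero : ∀ {U : Over S} (g : U ⟶ Y), θ g 1 = 1 := fun {U} g =>
    congrArg (fun x => x.down.toMul) (map_zero (ψ.hom.app (op (Over.mk g))).hom)
  let β : A ⊗ Y ⟶ T := θ (snd A Y) (fst A Y)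
  let σ : Y ⟶ A ⊗ Y := lift 1 (𝟙 Y)
  have hσ : σ ≫ β = 1 := by
    show σ ≫ θ (snd A Y) (fst A Y) = 1
    rw [← hnat, lift_fst, lift_snd, hzero]
  have hone : (1 : A ⊗ Y ⟶ T) = snd A Y ≫ (1 : Y ⟶ T) := (MonObj.comp_one _).symm
  have hβ : β = 1 := by
    apply Over.OverMorphism.ext
    haveI : IsProper (snd A Y).left := inferInstanceAs (IsProper (pullback.snd A.hom Y.hom))
    haveI : Flat (snd A Y).left := inferInstanceAs (Flat (pullback.snd A.hom Y.hom))
    haveI : LocallyOfFinitePresentation (snd A Y).left :=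
      inferInstanceAs (LocallyOfFinitePresentation (pullback.snd A.hom Y.hom))
    haveI : GeometricallyConnected (snd A Y).left :=
      inferInstanceAs (GeometricallyConnected (pullback.snd A.hom Y.hom))
    haveI : GeometricallyReduced (snd A Y).left :=
      inferInstanceAs (GeometricallyReduced (pullback.snd A.hom Y.hom))
    refine eq_of_section (snd A Y).left σ.left ?_ Y.hom T.hom _ _ ((Over.w β).trans (Over.w (snd A Y)).symm)
      ((Over.w (1 : A ⊗ Y ⟶ T)).trans (Over.w (snd A Y)).symm) ?_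
    · rw [← Over.comp_left, lift_snd, Over.id_left]
    · rw [← Over.comp_left, ← Over.comp_left, hσ, MonObj.comp_one]
  refine Sheaf.hom_ext (NatTrans.ext (funext fun U => AddCommGrpCat.ext fun t => ?_))
  obtain ⟨U⟩ := U
  obtain ⟨t⟩ := t
  let t' : U.left ⟶ A := t.toMul
  have e' : θ U.hom t' = 1 := by
    have := hnat (snd A Y) (lift t' U.hom) (fst A Y)
    erw [lift_snd, lift_fst] at this
    rw [this]
    show _ ≫ β = 1
    rw [hβ, MonObj.comp_one]
  apply ULift.ext
  change Additive.ofMul (θ U.hom t') = 0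
  rw [e']
  rfl

end Groth.Agent.SemiAb7
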