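import Groth.Agent.Hopf35.DualSeq

/-!
Left exactness of the internal Hom of abelian sheaves in the second variable.
-/

set_option autoImplicit false
set_option linter.style.haveILetI false
universe u

open CategoryTheory CategoryTheory.Limits Opposite

noncomputable section

namespace Groth.Agent.SemiAb7

open Hopf35.DualSeq

variable {C : Type (u + 1)} [Category.{u} C] {J : GrothendieckTopology C}
  [HasSheafify J AddCommGrpCat.{u + 1}]
  {S : ShortComplex (Sheaf J AddCommGrpCat.{u + 1})} [∀ T : C, HasSheafify (J.over T) AddCommGrpCat.{u + 1}]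
  (F : Sheaf J AddCommGrpCat.{u + 1})

omit [∀ T : C, HasSheafify (J.over T) AddCommGrpCat.{u + 1}] [HasSheafify J AddCommGrpCat.{u + 1}] in
theorem homSeq_w (S : ShortComplex (Sheaf J AddCommGrpCat.{u + 1})) :
    HomSh.homShMap J (𝟙 F) S.f ≫ HomSh.homShMap J (𝟙 F) S.g = 0 := by
  rw [← HomSh.homShMap_comp, S.zero, Category.id_comp]
  refine Sheaf.hom_ext (NatTrans.ext (funext fun T => AddCommGrpCat.ext fun x => ?_))
  let P := J.overPullback AddCommGrpCat.{u + 1} (unop T)
  let x' : P.obj F ⟶ P.obj S.X₁ := x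
  show P.map (𝟙 F) ≫ x' ≫ P.map (0 : S.X₁ ⟶ S.X₃) = 0
  rw [Functor.map_zero, comp_zero, comp_zero]

variable (S) in
/-- The sequence of internal Homs out of `F`. -/
abbrev homSeq : ShortComplex (Sheaf J AddCommGrpCat.{u + 1}) :=
  ShortComplex.mk (HomSh.homShMap J (𝟙 F) S.f) (HomSh.homShMap J (𝟙 F) S.g) (homSeq_w F S)

theorem mono_homSeq (hS : S.ShortExact) : Mono (HomSh.homShMap J (𝟙 F) S.f) := by
  refine mono_of_sections _ fun T x hx => ?_
  let P := J.overPullback AddCommGrpCat.{u + 1} (unop T)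
  haveI := (map_shortExact hS (unop T)).mono_f
  let x' : P.obj F ⟶ P.obj S.X₁ := x
  have hx' : x' ≫ P.map S.f = 0 := by
    refine Eq.trans ?_ hx
    exact ((congrArg (· ≫ (x' ≫ P.map S.f)) (P.map_id F)).trans (Category.id_comp _)).symm
  exact (cancel_mono ((S.map P).f)).1 (hx'.trans zero_comp.symm)

theorem exact_homSeq (hS : S.ShortExact) : (homSeq S F).Exact := by
  haveI := mono_homSeq F hS
  refine exact_of_sections _ _ _ fun T x hx => ?_
  let P := J.overPullback AddCommGrpCat.{u + 1} (unop T)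
  have h := map_shortExact hS (unop T)
  haveI := h.mono_f
  let x' : P.obj F ⟶ P.obj S.X₂ := x
  have hx' : x' ≫ (S.map P).g = 0 := by
    refine Eq.trans ?_ hx
    exact ((congrArg (· ≫ (x' ≫ P.map S.g)) (P.map_id F)).trans (Category.id_comp _)).symm
  refine ⟨h.exact.lift x' hx', ?_⟩
  show P.map (𝟙 F) ≫ h.exact.lift x' hx' ≫ P.map S.f = x'
  exact ((congrArg (· ≫ _) (P.map_id F)).trans (Category.id_comp _)).trans (h.exact.lift_f x' hx')

/-- If the sheaf of homomorphisms to the quotient vanishes, homomorphisms factor through the subsheaf. -/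
theorem isIso_homSeq_f (hS : S.ShortExact) (h : IsZero (HomSh.homSh J F S.X₃)) :
    IsIso (HomSh.homShMap J (𝟙 F) S.f) := by
  haveI := mono_homSeq F hS
  haveI := (exact_homSeq F hS).epi_f (h.eq_of_tgt _ _)
  exact isIso_of_mono_of_epi _

theorem mono_homSeq_g (hS : S.ShortExact) (h : IsZero (HomSh.homSh J F S.X₁)) :
    Mono (HomSh.homShMap J (𝟙 F) S.g) :=
  (exact_homSeq F hS).mono_g (h.eq_of_src _ _)

/-- If the sheaf of homomorphisms from the subsheaf vanishes, homomorphisms factor through the quotient. -/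
theorem isIso_dual_g (M : Sheaf J AddCommGrpCat.{u + 1}) (hS : S.ShortExact)
    (h : IsZero (HomSh.homSh J S.X₁ M)) : IsIso (HomSh.homShMap J S.g (𝟙 M)) := by
  haveI := mono_dual M hS
  haveI := (exact_dual M hS).epi_f (h.eq_of_tgt _ _)
  exact isIso_of_mono_of_epi _

theorem mono_dual_f (M : Sheaf J AddCommGrpCat.{u + 1}) (hS : S.ShortExact)
    (h : IsZero (HomSh.homSh J S.X₃ M)) : Mono (HomSh.homShMap J S.f (𝟙 M)) :=
  (exact_dual M hS).mono_g (h.eq_of_src _ _)

end Groth.Agent.SemiAb7
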